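import Mathlib.RingTheory.Smooth.StandardSmoothCotangent
import Mathlib.RingTheory.Kaehler.Polynomial
import Mathlib.RingTheory.LocalRing.ResidueField.Ideal
import Mathlib.LinearAlgebra.Matrix.NonsingularInverse

/-!
Local embedding into standard smooth algebras of dimension the number of generators of the differentials.
-/

set_option autoImplicit false
set_option linter.style.haveILetI false

universe u

open TensorProduct MvPolynomial

namespace Groth.Agent.OmegaEmb16

/-- Jacobian-invertible quotients of polynomial rings are standard smooth after inverting. -/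
theorem isStandardSmooth_of_det {A : Type u} [CommRing A] {p r : ℕ}
    (m : Fin r → MvPolynomial (Fin p ⊕ Fin r) A) :
    let C₀ := MvPolynomial (Fin p ⊕ Fin r) A ⧸ Ideal.span (Set.range m)
    let D : C₀ := Ideal.Quotient.mk _ (Matrix.det (Matrix.of fun i j : Fin r => pderiv (Sum.inr i) (m j)))
    Algebra.IsStandardSmoothOfRelativeDimension p A (Localization.Away D) := by
  intro C₀ D
  let P₀ : Algebra.PreSubmersivePresentation A C₀ (Fin p ⊕ Fin r) (Fin r) :=
    { __ := Algebra.Presentation.naive (v := m)
      map := Sum.inr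
      map_inj := Sum.inr_injective }
  have hjac : P₀.jacobian = D := by
    rw [Algebra.PreSubmersivePresentation.jacobian_eq_jacobiMatrix_det]
    have : P₀.jacobiMatrix = Matrix.of fun i j : Fin r => pderiv (Sum.inr i) (m j) := by
      ext1 i j
      rw [Algebra.PreSubmersivePresentation.jacobiMatrix_apply]
      rfl
    rw [this]
    rfl
  let Q := Algebra.PreSubmersivePresentation.localizationAway (Localization.Away D) D
  let P : Algebra.SubmersivePresentation A (Localization.Away D) (Unit ⊕ (Fin p ⊕ Fin r)) (Unit ⊕ Fin r) :=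
    { __ := Q.comp P₀
      jacobian_isUnit := by
        rw [Algebra.PreSubmersivePresentation.comp_jacobian_eq_jacobian_smul_jacobian, hjac,
          Algebra.PreSubmersivePresentation.localizationAway_jacobian, Algebra.smul_def]
        exact (IsLocalization.Away.algebraMap_isUnit D).mul (IsLocalization.Away.algebraMap_isUnit D) }
  refine P.isStandardSmoothOfRelativeDimension ?_
  show Nat.card (Unit ⊕ (Fin p ⊕ Fin r)) - Nat.card (Unit ⊕ Fin r) = p
  simp only [Nat.card_eq_fintype_card, Fintype.card_sum, Fintype.card_fin, Fintype.card_unit]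
  omega

/-- If `p` elements generate the differentials near a prime, the algebra embeds near that prime in a
standard smooth algebra of relative dimension `p`. -/
theorem exists_surjection {A B : Type u} [CommRing A] [CommRing B] [Algebra A B] [Algebra.FiniteType A B]
    (q : Ideal B) [q.IsPrime] (p : ℕ) (d₀ : B) (hd₀ : d₀ ∉ q) (g : Fin p → Ω[B⁄A])
    (hg : ∀ y, d₀ • y ∈ Submodule.span B (Set.range g)) :
    ∃ (d : B) (C : Type u) (_ : CommRing C) (_ : Algebra A C), d ∉ q ∧
      Algebra.IsStandardSmoothOfRelativeDimension p A C ∧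
      ∃ φ : C →ₐ[A] Localization.Away d, Function.Surjective φ := by
  classical
  let k := q.ResidueField
  have hzero : ∀ b : B, algebraMap B k b = 0 ↔ b ∈ q := fun b => Ideal.algebraMap_residueField_eq_zero
  let V := k ⊗[B] Ω[B⁄A]
  let w : Ω[B⁄A] → V := fun x => (1 : k) ⊗ₜ[B] x
  let S : Set V := Set.range fun b : B => w (KaehlerDifferential.D A B b)
  have hS : Submodule.span k S = ⊤ := by
    refine top_unique fun v hv => ?_
    clear hv
    induction v using TensorProduct.induction_on with
    | zero => exact zero_mem _
    | add a b ha hb => exact add_mem ha hb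
    | tmul a x =>
      rw [show a ⊗ₜ[B] x = a • w x by rw [smul_tmul', smul_eq_mul, mul_one]]
      refine Submodule.smul_mem _ _ ?_
      have hx : x ∈ Submodule.span B (Set.range (KaehlerDifferential.D A B)) := by
        rw [KaehlerDifferential.span_range_derivation]; trivial
      induction hx using Submodule.span_induction with
      | mem y hy => obtain ⟨b, rfl⟩ := hy; exact Submodule.subset_span ⟨b, rfl⟩
      | zero => rw [show w 0 = 0 from tmul_zero _ _]; exact zero_mem _
      | add y z _ _ hy hz => rw [show w (y + z) = w y + w z from tmul_add _ _ _]; exact add_mem hy hz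
      | smul c y _ hy =>
        rw [show w (c • y) = algebraMap B k c • w y by
          show (1 : k) ⊗ₜ[B] (c • y) = _
          rw [tmul_smul, ← algebraMap_smul k c]]
        exact Submodule.smul_mem _ _ hy
  have hG : Submodule.span k (Set.range fun i => w (g i)) = ⊤ := by
    refine top_unique fun v hv => ?_
    clear hv
    induction v using TensorProduct.induction_on with
    | zero => exact zero_mem _
    | add a b ha hb => exact add_mem ha hb
    | tmul a x =>
      have hu : algebraMap B k d₀ ≠ 0 := fun h => hd₀ ((hzero d₀).1 h)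
      rw [show a ⊗ₜ[B] x = (a * (algebraMap B k d₀)⁻¹) • w (d₀ • x) by
        show _ = _ • ((1 : k) ⊗ₜ[B] (d₀ • x))
        rw [tmul_smul, ← algebraMap_smul k d₀, smul_smul, smul_tmul', smul_eq_mul, mul_one, mul_assoc,
          inv_mul_cancel₀ hu, mul_one]]
      refine Submodule.smul_mem _ _ ?_
      obtain ⟨c, hc⟩ := (Submodule.mem_span_range_iff_exists_fun B).1 (hg x)
      rw [← hc, show w (∑ i, c i • g i) = ∑ i, algebraMap B k (c i) • w (g i) by
        show (1 : k) ⊗ₜ[B] _ = _
        rw [tmul_sum]
        refine Finset.sum_congr rfl fun i _ => ?_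
        rw [tmul_smul, ← algebraMap_smul k (c i)]]
      exact sum_mem fun i _ => Submodule.smul_mem _ _ (Submodule.subset_span ⟨i, rfl⟩)
  haveI : Module.Finite k V := ⟨⟨Finset.univ.image fun i => w (g i), by
    rw [Finset.coe_image, Finset.coe_univ, Set.image_univ]; exact hG⟩⟩
  have hrank : Module.finrank k V ≤ p := by
    have h := finrank_range_le_card (R := k) (fun i => w (g i))
    rw [Set.finrank, hG, finrank_top, Fintype.card_fin] at h
    exact h
  obtain ⟨b₀, hb₀S, hb₀span, hli⟩ := exists_linearIndependent k S
  rw [hS] at hb₀span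
  haveI : Fintype b₀ := hli.setFinite.fintype
  have hcard : Fintype.card b₀ ≤ p := hli.fintype_card_le_finrank.trans hrank
  obtain ⟨em⟩ : Nonempty (b₀ ↪ Fin p) :=
    Function.Embedding.nonempty_of_card_le (by rwa [Fintype.card_fin])
  choose pre hpre using fun v : b₀ => hb₀S v.2
  let c : Fin p → B := fun i => if h : ∃ v, em v = i then pre h.choose else 0
  have hc : Submodule.span k (Set.range fun i => w (KaehlerDifferential.D A B (c i))) = ⊤ := by
    refine top_unique (hb₀span.ge.trans (Submodule.span_le.2 fun v hv => Submodule.subset_span ?_))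
    have hex : ∃ v', em v' = em ⟨v, hv⟩ := ⟨_, rfl⟩
    refine ⟨em ⟨v, hv⟩, ?_⟩
    simp only [c]
    rw [dif_pos hex, em.injective hex.choose_spec]
    exact hpre ⟨v, hv⟩
  obtain ⟨r, π₁, hπ₁⟩ := Algebra.FiniteType.iff_quotient_mvPolynomial''.1 ‹Algebra.FiniteType A B›
  let π : MvPolynomial (Fin p ⊕ Fin r) A →ₐ[A] B := aeval (Sum.elim c fun j => π₁ (X j))
  have hπ : Function.Surjective π := fun b => by
    obtain ⟨f, rfl⟩ := hπ₁ b
    refine ⟨rename Sum.inr f, ?_⟩
    have : π.comp (rename Sum.inr) = π₁ := algHom_ext fun j => by simp [π]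
    exact AlgHom.congr_fun this f
  let I := RingHom.ker π.toRingHom
  let ε : MvPolynomial (Fin p ⊕ Fin r) A →+* k := (algebraMap B k).comp π.toRingHom
  let L : MvPolynomial (Fin p ⊕ Fin r) A → (Fin r → k) := fun f j => ε (pderiv (Sum.inr j) f)
  have hspan : Submodule.span k (L '' (I : Set (MvPolynomial (Fin p ⊕ Fin r) A))) = ⊤ := by
    by_contra hW
    obtain ⟨lam, hlam0, hker⟩ := Submodule.exists_le_ker_of_lt_top _ (lt_top_iff_ne_top.2 hW)
    let δ : MvPolynomial (Fin p ⊕ Fin r) A → k := fun f => lam (L f)
    have hLadd : ∀ f f', L (f + f') = L f + L f' := fun f f' => by funext j; simp [L]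
    have hLsub : ∀ f f', L (f - f') = L f - L f' := fun f f' => by funext j; simp [L]
    have hLmul : ∀ f f', L (f * f') = ε f • L f' + ε f' • L f := fun f f' => by
      funext j
      simp only [L, pderiv_mul, map_add, map_mul, Pi.add_apply, Pi.smul_apply, smul_eq_mul]
      ring
    have hI : ∀ f ∈ I, δ f = 0 := fun f hf => hker (Submodule.subset_span ⟨f, hf, rfl⟩)
    choose s hs using hπ
    have hδ : ∀ f, δ (s (π f)) = δ f := fun f => by
      have h : δ (s (π f) - f) = 0 := hI _ (by
        show π (s (π f) - f) = 0
        rw [map_sub, hs, sub_self])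
      have h' : δ (s (π f) - f) = δ (s (π f)) - δ f := by simp [δ, hLsub]
      rw [h'] at h
      exact sub_eq_zero.1 h
    let dB : B →ₗ[A] k :=
      { toFun := fun b => δ (s b)
        map_add' := fun a b => by
          have := hδ (s a + s b)
          rw [map_add, hs, hs] at this
          rw [this]
          simp [δ, hLadd]
        map_smul' := fun a b => by
          have := hδ (a • s b)
          rw [map_smul, hs] at this
          rw [this]
          have e : L (a • s b) = algebraMap A k a • L (s b) := by
            funext j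
            show ε (pderiv (Sum.inr j) (a • s b)) = algebraMap A k a * ε (pderiv (Sum.inr j) (s b))
            rw [Derivation.map_smul, Algebra.smul_def, map_mul]
            congr 1
            show algebraMap B k (π (algebraMap A _ a)) = _
            rw [π.commutes, ← IsScalarTower.algebraMap_apply]
          show lam (L (a • s b)) = _
          rw [e, map_smul, RingHom.id_apply, algebraMap_smul] }
    let DB : Derivation A B k := Derivation.mk' dB fun a b => by
      show δ (s (a * b)) = a • δ (s b) + b • δ (s a)
      have := hδ (s a * s b)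
      rw [map_mul, hs, hs] at this
      rw [this]
      have hε : ∀ z, ε (s z) = algebraMap B k z := fun z => congrArg (algebraMap B k) (hs z)
      simp only [δ, hLmul, hε, map_add, map_smul, smul_eq_mul, Algebra.smul_def (R := B) (A := k)]
    have hlift : ∀ x : B, DB x = (LinearMap.liftBaseChange k DB.liftKaehlerDifferential) (w (KaehlerDifferential.D A B x)) :=
      fun x => by
        show _ = LinearMap.liftBaseChange k DB.liftKaehlerDifferential ((1 : k) ⊗ₜ[B] _)
        rw [LinearMap.liftBaseChange_tmul, one_smul, Derivation.liftKaehlerDifferential_comp_D]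
    have hfun : LinearMap.liftBaseChange k DB.liftKaehlerDifferential = 0 := by
      refine LinearMap.ext_on_range hc fun i => ?_
      rw [← hlift, LinearMap.zero_apply]
      show δ (s (c i)) = 0
      have := hδ (X (Sum.inl i))
      rw [show π (X (Sum.inl i)) = c i by simp [π]] at this
      rw [this]
      show lam (L (X (Sum.inl i))) = 0
      rw [show L (X (Sum.inl i)) = 0 by funext j; simp [L], map_zero]
    refine hlam0 (LinearMap.pi_ext' fun j => LinearMap.ext_ring ?_)
    show lam (Pi.single j 1) = 0
    have hX : L (X (Sum.inr j)) = Pi.single j 1 := by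
      funext i
      simp only [L, pderiv_X]
      rcases eq_or_ne i j with rfl | hne <;> simp [*]
    have := hδ (X (Sum.inr j))
    rw [show δ (s (π (X (Sum.inr j)))) = DB (π (X (Sum.inr j))) from rfl, hlift, hfun,
      LinearMap.zero_apply] at this
    rw [← hX]
    exact this.symm
  obtain ⟨T, hTsub, hTspan, hTli⟩ := exists_linearIndependent k (L '' (I : Set (MvPolynomial (Fin p ⊕ Fin r) A)))
  rw [hspan] at hTspan
  let bT := Module.Basis.mk hTli (by rw [Subtype.range_coe]; exact hTspan.ge)
  let eT : Fin r ≃ T := (Pi.basisFun k (Fin r)).indexEquiv bT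
  choose m hmI hmL using fun i : Fin r => hTsub (eT i).2
  let M : Matrix (Fin r) (Fin r) (MvPolynomial (Fin p ⊕ Fin r) A) :=
    Matrix.of fun i j => pderiv (Sum.inr i) (m j)
  have hdet : π M.det ∉ q := by
    intro hmem
    have h0 : ε M.det = 0 := (hzero _).2 hmem
    rw [RingHom.map_det, ← Matrix.det_transpose] at h0
    have hrows : LinearIndependent k (ε.mapMatrix M).transpose.row := by
      have : (ε.mapMatrix M).transpose.row = fun i => ((eT i : T) : Fin r → k) := by
        funext i j
        rw [← hmL i]
        rfl
      rw [this]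
      exact hTli.comp eT eT.injective
    rw [Matrix.linearIndependent_rows_iff_isUnit, Matrix.isUnit_iff_isUnit_det, h0] at hrows
    exact not_isUnit_zero hrows
  let C₀ := MvPolynomial (Fin p ⊕ Fin r) A ⧸ Ideal.span (Set.range m)
  let D : C₀ := Ideal.Quotient.mk _ M.det
  have hle : ∀ a ∈ Ideal.span (Set.range m), π a = 0 := fun a ha =>
    (Ideal.span_le.2 (by rintro _ ⟨i, rfl⟩; exact hmI i) : Ideal.span (Set.range m) ≤ I) ha
  let φ₀ : C₀ →ₐ[A] B := Ideal.Quotient.liftₐ _ π hle
  have hφD : φ₀ D = π M.det := Ideal.Quotient.liftₐ_apply ..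
  let ψ : C₀ →ₐ[A] Localization.Away (π M.det) := (IsScalarTower.toAlgHom A B _).comp φ₀
  have hψD : IsUnit (ψ D) := by
    show IsUnit (algebraMap B (Localization.Away (π M.det)) (φ₀ D))
    rw [hφD]
    exact IsLocalization.Away.algebraMap_isUnit _
  have hu : ∀ y : Submonoid.powers D, IsUnit (ψ y) := by
    rintro ⟨_, n, rfl⟩
    show IsUnit (ψ (D ^ n))
    rw [map_pow]
    exact hψD.pow n
  let φ : Localization.Away D →ₐ[A] Localization.Away (π M.det) :=
    IsLocalization.liftAlgHom (M := Submonoid.powers D) (S := Localization.Away D) hu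
  refine ⟨π M.det, Localization.Away D, inferInstance, inferInstance, hdet, isStandardSmooth_of_det m, φ, fun y => ?_⟩
  obtain ⟨⟨b, ⟨_, n, rfl⟩⟩, hy⟩ := IsLocalization.surj (Submonoid.powers (π M.det)) y
  obtain ⟨f, rfl⟩ := hπ b
  refine ⟨IsLocalization.mk' (Localization.Away D) (Ideal.Quotient.mk _ f)
    (⟨D ^ n, n, rfl⟩ : Submonoid.powers D), (hψD.pow n).mul_right_cancel ?_⟩
  have hφψ : ∀ a, φ (algebraMap C₀ (Localization.Away D) a) = ψ a := fun a => by
    show IsLocalization.lift hu (algebraMap C₀ (Localization.Away D) a) = ψ a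
    exact IsLocalization.lift_eq hu a
  have hspec := IsLocalization.mk'_spec (Localization.Away D) (Ideal.Quotient.mk (Ideal.span (Set.range m)) f)
    (⟨D ^ n, n, rfl⟩ : Submonoid.powers D)
  have h2 := congrArg φ hspec
  rw [map_mul, hφψ, hφψ, map_pow] at h2
  refine h2.trans ?_
  rw [← map_pow]
  show algebraMap B _ (φ₀ (Ideal.Quotient.mk _ f)) = y * algebraMap B _ (φ₀ (D ^ n))
  rw [map_pow, hφD]
  exact hy.symm

end Groth.Agent.OmegaEmb16
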